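import Mathlib
import Cfsg.Agent.Helper96.StN.Conj
import Cfsg.Agent.Helper96.SpecialSL

/-!
# Generic consequences of "every `w_ij(t)` is monomial" and of the rank one relations

`MonoData X σ c` packages the two facts about a family `X i j t` from which the structure of the
groups `N = ⟨w_ij(t)⟩` and `H = ⟨h_ij(t)⟩` follows: the rank one relations (A), (B') for every
pair `(X i j, X j i)`, and that `w_ij(t)` normalizes the root subgroups like the monomial matrix
`e_k ↦ c i j t k • e_(σ i j k)`.  It holds for the families of type `A` (`Cfsg.Agent.Helper96.StN`)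
and of type `C` (`Cfsg.Agent.Helper96.StC`).
-/

set_option autoImplicit false

namespace Cfsg.Agent.Helper96.StC

open Matrix Cfsg.Agent.Helper96.StN Cfsg.Agent.Helper96.StPres Cfsg.Agent.Helper96.StemSLTwo
  Cfsg.Agent.Helper96.SpecialSL

universe u v w

variable {K : Type u} [Field K] {D : Type v} [Group D] {ι : Type w}

/-- the rank one relations for all pairs of indices, and all `w_ij(t)` are monomial -/
structure MonoData (X : ι → ι → K → D) (σ : ι → ι → Equiv.Perm ι) (c : ι → ι → K → ι → K) :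
    Prop where
  rel : ∀ i j, i ≠ j → StPres.Rel (pair X i j)
  mono : ∀ i j, i ≠ j → ∀ t, t ≠ 0 → IsMono X (W X i j t) (σ i j) (c i j t)

theorem isMono_conj_W {X : ι → ι → K → D} {g : D} {π : Equiv.Perm ι} {pp : ι → K}
    (hm : IsMono X g π pp) {k l : ι} (hkl : k ≠ l) (u : K) :
    g * W X k l u * g⁻¹ = W X (π k) (π l) (pp k * (pp l)⁻¹ * u) := by
  have e : g * W X k l u * g⁻¹ =
      (g * X k l u * g⁻¹) * (g * X l k (-u⁻¹) * g⁻¹) * (g * X k l u * g⁻¹) := by
    unfold W; group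
  rw [e, hm.2 k l hkl, hm.2 l k hkl.symm]
  unfold W
  congr 2
  have h1 := hm.1 k; have h2 := hm.1 l
  rw [mul_inv, mul_inv, inv_inv]
  ring

theorem W_eq_Hd_mul' {X : ι → ι → K → D} (i j : ι) (t : K) :
    W X i j t = Hd X i j t * W X i j 1 := by
  unfold Hd; group

namespace MonoData

variable {X : ι → ι → K → D} {σ : ι → ι → Equiv.Perm ι} {c : ι → ι → K → ι → K}
  (h : MonoData X σ c)

include h

theorem X_add {i j : ι} (hij : i ≠ j) (t u : K) : X i j (t + u) = X i j t * X i j u :=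
  (h.rel i j hij).add true t u

theorem X_zero {i j : ι} (hij : i ≠ j) : X i j 0 = 1 :=
  StPres.X_zero (h.rel i j hij) true

theorem X_neg {i j : ι} (hij : i ≠ j) (t : K) : (X i j t)⁻¹ = X i j (-t) :=
  StPres.X_neg (h.rel i j hij) true t

theorem W_inv {i j : ι} (hij : i ≠ j) (t : K) : (W X i j t)⁻¹ = W X i j (-t) :=
  StPres.W_inv (h.rel i j hij) true t

theorem W_swap {i j : ι} (hij : i ≠ j) {t : K} (ht : t ≠ 0) : W X i j t = W X j i (-t⁻¹) := by
  have h' := StPres.W_swap (h.rel i j hij) true t ht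
  rw [Wd_pair_true, Bool.not_true, Wd_pair_false] at h'
  exact h'

/-- the homomorphism `SL₂(K) → D` attached to a pair of indices -/
noncomputable def rankOneHom [Fintype K] {i j : ι} (hij : i ≠ j) :
    SpecialLinearGroup (Fin 2) K →* D :=
  relHom (h.rel i j hij)

theorem rankOneHom_u [Fintype K] {i j : ι} (hij : i ≠ j) (t : K) :
    h.rankOneHom hij (uMat K t) = X i j t :=
  relHom_u (h.rel i j hij) t

theorem rankOneHom_l [Fintype K] {i j : ι} (hij : i ≠ j) (t : K) :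
    h.rankOneHom hij (lMat K t) = X j i t :=
  relHom_l (h.rel i j hij) t

theorem rankOneHom_W [Fintype K] {i j : ι} (hij : i ≠ j) (t : K) :
    h.rankOneHom hij (WU t) = W X i j t := by
  unfold WU W
  rw [map_mul, map_mul, rankOneHom_u, rankOneHom_l]

theorem rankOneHom_d [Fintype K] {i j : ι} (hij : i ≠ j) {t : K} (ht : t ≠ 0) :
    h.rankOneHom hij (dMat t ht) = Hd X i j t := by
  rw [← WU_eq t ht, map_mul, map_inv, rankOneHom_W, rankOneHom_W]
  rfl

theorem Hd_mul [Fintype K] {i j : ι} (hij : i ≠ j) {t u : K} (ht : t ≠ 0) (hu : u ≠ 0) :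
    Hd X i j (t * u) = Hd X i j t * Hd X i j u := by
  rw [← h.rankOneHom_d hij ht, ← h.rankOneHom_d hij hu,
    ← h.rankOneHom_d hij (mul_ne_zero ht hu), ← map_mul, dMat_mul]

theorem Hd_inv [Fintype K] {i j : ι} (hij : i ≠ j) {t : K} (ht : t ≠ 0) :
    (Hd X i j t)⁻¹ = Hd X i j t⁻¹ := by
  rw [inv_eq_iff_mul_eq_one, ← h.Hd_mul hij ht (inv_ne_zero ht), mul_inv_cancel₀ ht]
  unfold Hd
  exact mul_inv_cancel _

/-- `h_ji(t) = h_ij(t)⁻¹`, in the form `h_ji(t) = w_ij(-t⁻¹) w_ij(-1)⁻¹` -/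
theorem Hd_swap_aux {i j : ι} (hij : i ≠ j) {t : K} (ht : t ≠ 0) :
    Hd X j i t = W X i j (-t⁻¹) * (W X i j (-1))⁻¹ := by
  unfold Hd
  rw [h.W_swap hij.symm ht, h.W_swap hij.symm one_ne_zero, inv_one]

theorem Hd_swap [Fintype K] {i j : ι} (hij : i ≠ j) {t : K} (ht : t ≠ 0) :
    Hd X j i t = (Hd X i j t)⁻¹ := by
  rw [h.Hd_swap_aux hij ht]
  have h1 : W X i j (-t⁻¹) = Hd X i j (-t⁻¹) * W X i j 1 := by unfold Hd; group
  have h2 : W X i j (-1) = Hd X i j (-1) * W X i j 1 := by unfold Hd; group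
  rw [h1, h2]
  have e : Hd X i j (-t⁻¹) * W X i j 1 * (Hd X i j (-1) * W X i j 1)⁻¹ =
      Hd X i j (-t⁻¹) * (Hd X i j (-1))⁻¹ := by group
  rw [e, h.Hd_inv hij ht, h.Hd_inv hij (neg_ne_zero.mpr one_ne_zero),
    ← h.Hd_mul hij (neg_ne_zero.mpr (inv_ne_zero ht))
      (inv_ne_zero (neg_ne_zero.mpr one_ne_zero))]
  congr 1
  field_simp

/-- `w_ij(a) w_ij(b)⁻¹ = h_ij(a / b)` -/
theorem W_mul_W_inv [Fintype K] {i j : ι} (hij : i ≠ j) {a b : K} (ha : a ≠ 0) (hb : b ≠ 0) :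
    W X i j a * (W X i j b)⁻¹ = Hd X i j (a * b⁻¹) := by
  rw [W_eq_Hd_mul' i j a, W_eq_Hd_mul' i j b, _root_.mul_inv_rev, mul_assoc, mul_inv_cancel_left,
    h.Hd_inv hij hb, ← h.Hd_mul hij ha (inv_ne_zero hb)]

/-- a monomial element conjugates `h_kl(u)` to `h_(πk)(πl)(u)` -/
theorem conj_Hd [Fintype K] {g : D} {π : Equiv.Perm ι} {pp : ι → K} (hm : IsMono X g π pp)
    {k l : ι} (hkl : k ≠ l) {u : K} (hu : u ≠ 0) :
    g * Hd X k l u * g⁻¹ = Hd X (π k) (π l) u := by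
  have e : g * Hd X k l u * g⁻¹ = (g * W X k l u * g⁻¹) * (g * W X k l 1 * g⁻¹)⁻¹ := by
    unfold Hd; group
  have hc : pp k * (pp l)⁻¹ ≠ 0 := mul_ne_zero (hm.1 k) (inv_ne_zero (hm.1 l))
  have hkl' : π k ≠ π l := fun e => hkl (π.injective e)
  rw [e, isMono_conj_W hm hkl, isMono_conj_W hm hkl, h.W_mul_W_inv hkl' (mul_ne_zero hc hu)
    (mul_ne_zero hc one_ne_zero)]
  congr 1
  have h1 := hm.1 k; have h2 := hm.1 l
  field_simp

/-- `h_ij(t)` is monomial with trivial permutation -/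
theorem Hd_isMono {i j : ι} (hij : i ≠ j) {t : K} (ht : t ≠ 0) :
    IsMono X (Hd X i j t) 1
      (fun k => c i j t ((σ i j)⁻¹ k) * (c i j 1 ((σ i j)⁻¹ k))⁻¹) := by
  have h1 := h.mono i j hij t ht
  have h2 := (h.mono i j hij 1 one_ne_zero).inv
  have h' := h1.mul h2
  have e1 : σ i j * (σ i j)⁻¹ = 1 := mul_inv_cancel _
  rw [e1] at h'
  exact h'

theorem Hd_commute [Fintype K] {i j k l : ι} (hij : i ≠ j) (hkl : k ≠ l) {t u : K} (ht : t ≠ 0)
    (hu : u ≠ 0) : Commute (Hd X i j t) (Hd X k l u) := by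
  have h' := h.conj_Hd (h.Hd_isMono hij ht) hkl hu
  rw [Equiv.Perm.one_apply, Equiv.Perm.one_apply] at h'
  exact mul_inv_eq_iff_eq_mul.mp h'

/-- the torus subgroup is commutative -/
theorem Hsub_commute [Fintype K] {a b : D} (ha : a ∈ Hsub X) (hb : b ∈ Hsub X) : Commute a b := by
  have key : ∀ a ∈ Hsub X, ∀ k l, k ≠ l → ∀ u : K, u ≠ 0 → Commute a (Hd X k l u) := by
    intro a ha k l hkl u hu
    induction ha using Subgroup.closure_induction with
    | mem g hg =>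
      obtain ⟨i, j, hij, t, ht, rfl⟩ := hg
      exact h.Hd_commute hij hkl ht hu
    | one => exact Commute.one_left _
    | mul x y _ _ hx hy => exact hx.mul_left hy
    | inv x _ hx => exact hx.inv_left
  induction hb using Subgroup.closure_induction with
  | mem g hg =>
    obtain ⟨k, l, hkl, u, hu, rfl⟩ := hg
    exact key a ha k l hkl u hu
  | one => exact Commute.one_right _
  | mul x y _ _ hx hy => exact hx.mul_right hy
  | inv x _ hx => exact hx.inv_right

/-- every element of the torus subgroup is monomial with trivial permutation -/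
theorem Hsub_isMono {a : D} (ha : a ∈ Hsub X) : ∃ pp, IsMono X a 1 pp := by
  induction ha using Subgroup.closure_induction with
  | mem g hg =>
    obtain ⟨i, j, hij, t, ht, rfl⟩ := hg
    exact ⟨_, h.Hd_isMono hij ht⟩
  | one => exact ⟨_, IsMono.one X⟩
  | mul a b _ _ ha hb =>
    obtain ⟨pa, hpa⟩ := ha
    obtain ⟨pb, hpb⟩ := hb
    have := hpa.mul hpb
    rw [mul_one] at this
    exact ⟨_, this⟩
  | inv a _ ha =>
    obtain ⟨pa, hpa⟩ := ha
    have := hpa.inv
    rw [inv_one] at this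
    exact ⟨_, this⟩

/-- every element of `N` is monomial -/
theorem Nsub_isMono {a : D} (ha : a ∈ Nsub X) : ∃ π pp, IsMono X a π pp := by
  induction ha using Subgroup.closure_induction with
  | mem g hg =>
    obtain ⟨i, j, hij, t, ht, rfl⟩ := hg
    exact ⟨_, _, h.mono i j hij t ht⟩
  | one => exact ⟨_, _, IsMono.one X⟩
  | mul a b _ _ ha hb =>
    obtain ⟨πa, pa, hpa⟩ := ha
    obtain ⟨πb, pb, hpb⟩ := hb
    exact ⟨_, _, hpa.mul hpb⟩
  | inv a _ ha =>
    obtain ⟨πa, pa, hpa⟩ := ha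
    exact ⟨_, _, hpa.inv⟩

/-- `H ≤ N` -/
theorem Hsub_le_Nsub : Hsub X ≤ Nsub X := by
  unfold Hsub
  rw [Subgroup.closure_le]
  rintro _ ⟨i, j, hij, t, ht, rfl⟩
  unfold Hd
  exact mul_mem (Subgroup.subset_closure ⟨i, j, hij, t, ht, rfl⟩)
    (inv_mem (Subgroup.subset_closure ⟨i, j, hij, 1, one_ne_zero, rfl⟩))

/-- `N` normalizes `H` -/
theorem conj_mem_Hsub [Fintype K] {n : D} (hn : n ∈ Nsub X) {a : D} (ha : a ∈ Hsub X) :
    n * a * n⁻¹ ∈ Hsub X := by
  obtain ⟨π, pp, hm⟩ := h.Nsub_isMono hn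
  induction ha using Subgroup.closure_induction with
  | mem g hg =>
    obtain ⟨i, j, hij, t, ht, rfl⟩ := hg
    rw [h.conj_Hd hm hij ht]
    exact Subgroup.subset_closure ⟨_, _, fun e => hij (π.injective e), t, ht, rfl⟩
  | one => simp
  | mul x y _ _ hx hy =>
    have e : n * (x * y) * n⁻¹ = (n * x * n⁻¹) * (n * y * n⁻¹) := by group
    rw [e]; exact mul_mem hx hy
  | inv x _ hx =>
    have e : n * x⁻¹ * n⁻¹ = (n * x * n⁻¹)⁻¹ := by group
    rw [e]; exact inv_mem hx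

end MonoData

end Cfsg.Agent.Helper96.StC
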