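import Mathlib
import Cfsg.Agent.Helper96.StN.Defs

/-!
# The Steinberg relations of type `C` in an abstract group: definitions

The index set is `I = ι ⊕ ι` with the involution `bar = Sum.swap` (think of `inl i` as `i` and
`inr i` as `-i`).  A family `X p q t` (`p ≠ q` in `I`, `t` in a field `K`) is thought of as the
root element of `Sp_{2m}(K)` for the root `ε p - ε q` (`ε (inl i) = e_i`, `ε (inr i) = -e_i`):
long roots are the pairs `(p, bar p)`, short roots the pairs with `q ≠ bar p`, and the pairs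
`(p, q)`, `(bar q, bar p)` give the same root.

The definitions `W`, `Hd`, `IsMono`, `Nsub`, `Hsub` of `Cfsg.Agent.Helper96.StN` are used with
the index type `I`.
-/

set_option autoImplicit false

namespace Cfsg.Agent.Helper96.StC

open Cfsg.Agent.Helper96.StN

variable {K : Type*} [Field K] {D : Type*} [Group D] {ι : Type*}

/-- the involution `i ↦ -i` of the index set `ι ⊕ ι` -/
def bar (p : ι ⊕ ι) : ι ⊕ ι := p.swap

@[simp] theorem bar_inl (i : ι) : bar (Sum.inl i : ι ⊕ ι) = Sum.inr i := rfl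

@[simp] theorem bar_inr (i : ι) : bar (Sum.inr i : ι ⊕ ι) = Sum.inl i := rfl

@[simp] theorem bar_bar (p : ι ⊕ ι) : bar (bar p) = p := by
  cases p <;> rfl

theorem bar_ne (p : ι ⊕ ι) : bar p ≠ p := by
  cases p <;> simp

theorem bar_injective : Function.Injective (bar : ι ⊕ ι → ι ⊕ ι) := fun p q h => by
  have := congrArg bar h
  simpa using this

theorem bar_eq_iff {p q : ι ⊕ ι} : bar p = q ↔ p = bar q := by
  constructor
  · rintro rfl; simp
  · rintro rfl; simp

/-- the sign `ε_p ε_q` as an element of `K`: `1` if `p`, `q` are on the same side, `-1` if not -/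
def eps (K : Type*) [Field K] (p q : ι ⊕ ι) : K := if p.isLeft = q.isLeft then 1 else -1

/-- the Steinberg relations of type `C` for a family `X p q t`, `p ≠ q` -/
structure SpRel (X : ι ⊕ ι → ι ⊕ ι → K → D) : Prop where
  sym : ∀ p q, p ≠ q → q ≠ bar p → ∀ t, X p q t = X (bar q) (bar p) (-(eps K p q * t))
  add : ∀ p q, p ≠ q → ∀ t u, X p q (t + u) = X p q t * X p q u
  comm : ∀ p q r s, p ≠ q → r ≠ s → q ≠ r → q ≠ bar s → p ≠ bar r → p ≠ s → ∀ t u,
    X p q t * X r s u = X r s u * X p q t
  mul : ∀ p q s, p ≠ q → q ≠ s → p ≠ s → p ≠ bar q → q ≠ bar s → p ≠ bar s → ∀ t u,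
    X p q t * X q s u * (X p q t)⁻¹ * (X q s u)⁻¹ = X p s (t * u)
  r5 : ∀ p q, p ≠ q → p ≠ bar q → ∀ t u,
    X p q t * X q (bar p) u * (X p q t)⁻¹ * (X q (bar p) u)⁻¹ = X p (bar p) (2 * t * u)
  r6 : ∀ p q, p ≠ q → p ≠ bar q → ∀ t u,
    X p (bar p) t * X (bar p) q u * (X p (bar p) t)⁻¹ * (X (bar p) q u)⁻¹ =
      X p q (t * u) * X (bar q) q (eps K p q * t * u ^ 2)

section matrices

variable [DecidableEq ι] [Fintype ι]

/-- the matrix of the root element `x_{pq}(t)` of `Sp_{2m}(K)` -/
def spM (p q : ι ⊕ ι) (t : K) : Matrix (ι ⊕ ι) (ι ⊕ ι) K :=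
  if q = bar p then 1 + Matrix.single p q t
  else 1 + Matrix.single p q t - Matrix.single (bar q) (bar p) (eps K p q * t)

end matrices

/-- the position of an index in the order `1 < 2 < ⋯ < m < -m < ⋯ < -2 < -1` -/
def rk {m : ℕ} : Fin m ⊕ Fin m → ℕ
  | Sum.inl i => i.val
  | Sum.inr i => 2 * m - 1 - i.val

/-- the subgroup generated by the positive root elements -/
def UposC {m : ℕ} (X : Fin m ⊕ Fin m → Fin m ⊕ Fin m → K → D) : Subgroup D :=
  Subgroup.closure {g | ∃ p q, rk p < rk q ∧ ∃ t, g = X p q t}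

/-- the permutation of the index set induced by the reflection in the root of `(p, q)` -/
def reflPerm [DecidableEq ι] (p q : ι ⊕ ι) : Equiv.Perm (ι ⊕ ι) :=
  if q = bar p then Equiv.swap p q else Equiv.swap p q * Equiv.swap (bar p) (bar q)

/-- the coefficients of `w_{pq}(t)`: it maps `e_k` to `cw p q t k • e_(reflPerm p q k)` -/
def cw [DecidableEq ι] (p q : ι ⊕ ι) (t : K) : ι ⊕ ι → K := fun k =>
  if q = bar p then (if k = p then -t⁻¹ else if k = q then t else 1)
  else if k = p then -t⁻¹ else if k = q then t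
    else if k = bar p then -(eps K p q * t) else if k = bar q then eps K p q * t⁻¹ else 1

end Cfsg.Agent.Helper96.StC
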