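import Mathlib
import Cfsg.Agent.Helper96.StC.Defs

/-!
# First consequences of the Steinberg relations of type `C`
-/

set_option autoImplicit false

namespace Cfsg.Agent.Helper96.StC

open Cfsg.Agent.Helper96.StN

variable {K : Type*} [Field K] {D : Type*} [Group D] {ι : Type*}

theorem eps_mul_self (p q : ι ⊕ ι) : eps K p q * eps K p q = 1 := by
  unfold eps; split_ifs <;> simp

theorem eps_ne_zero (p q : ι ⊕ ι) : eps K p q ≠ 0 := by
  unfold eps; split_ifs <;> simp

theorem eps_comm (p q : ι ⊕ ι) : eps K p q = eps K q p := by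
  unfold eps
  by_cases h : p.isLeft = q.isLeft
  · rw [if_pos h, if_pos h.symm]
  · rw [if_neg h, if_neg (fun e => h e.symm)]

theorem eps_inv (p q : ι ⊕ ι) : (eps K p q)⁻¹ = eps K p q := by
  unfold eps; split_ifs <;> simp

theorem isLeft_bar (p : ι ⊕ ι) : (bar p).isLeft = !p.isLeft := by
  cases p <;> rfl

theorem eps_bar_left (p q : ι ⊕ ι) : eps K (bar p) q = -eps K p q := by
  unfold eps
  rw [isLeft_bar]
  cases p.isLeft <;> cases q.isLeft <;> simp

theorem eps_bar_right (p q : ι ⊕ ι) : eps K p (bar q) = -eps K p q := by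
  rw [eps_comm, eps_bar_left, eps_comm]

theorem eps_bar_bar (p q : ι ⊕ ι) : eps K (bar p) (bar q) = eps K p q := by
  rw [eps_bar_left, eps_bar_right, neg_neg]

theorem eps_self (p : ι ⊕ ι) : eps K p p = 1 := by
  unfold eps; simp

theorem eps_self_bar (p : ι ⊕ ι) : eps K p (bar p) = -1 := by
  rw [eps_bar_right, eps_self]

theorem eps_mul_eps (p q r : ι ⊕ ι) : eps K p q * eps K q r = eps K p r := by
  unfold eps
  cases p.isLeft <;> cases q.isLeft <;> cases r.isLeft <;> simp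

section rel

variable {X : ι ⊕ ι → ι ⊕ ι → K → D} (hX : SpRel X)

include hX

theorem X_zero {p q : ι ⊕ ι} (hpq : p ≠ q) : X p q 0 = 1 := by
  have h := hX.add p q hpq 0 0
  rw [add_zero] at h
  exact left_eq_mul.mp h

theorem X_neg {p q : ι ⊕ ι} (hpq : p ≠ q) (t : K) : (X p q t)⁻¹ = X p q (-t) := by
  rw [inv_eq_iff_mul_eq_one, ← hX.add p q hpq, add_neg_cancel, X_zero hX hpq]

theorem X_comm_same {p q : ι ⊕ ι} (hpq : p ≠ q) (t u : K) :
    X p q t * X p q u = X p q u * X p q t := by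
  rw [← hX.add p q hpq, ← hX.add p q hpq, add_comm]

theorem W_inv {p q : ι ⊕ ι} (hpq : p ≠ q) (t : K) : (W X p q t)⁻¹ = W X p q (-t) := by
  unfold W
  rw [mul_inv_rev, mul_inv_rev, X_neg hX hpq, X_neg hX hpq.symm, mul_assoc, inv_neg, neg_neg]

/-- the same root written with the other pair of indices -/
theorem sym' {p q : ι ⊕ ι} (hpq : p ≠ q) (hpq' : q ≠ bar p) (t : K) :
    X (bar q) (bar p) t = X p q (-(eps K p q * t)) := by
  rw [hX.sym p q hpq hpq' (-(eps K p q * t))]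
  congr 1
  rw [mul_neg, neg_neg, ← mul_assoc, eps_mul_self, one_mul]

/-- `w` of a short root written with the other pair of indices -/
theorem W_bar {p q : ι ⊕ ι} (hpq : p ≠ q) (hpq' : q ≠ bar p) {t : K} (ht : t ≠ 0) :
    W X (bar q) (bar p) t = W X p q (-(eps K p q * t)) := by
  have hqp' : p ≠ bar q := fun e => hpq' (by rw [e, bar_bar])
  unfold W
  rw [sym' hX hpq hpq' t, sym' hX hpq.symm hqp' (-t⁻¹)]
  congr 2
  · congr 1
    rw [eps_comm q p, inv_neg, neg_neg, mul_inv, eps_inv, mul_neg, neg_neg]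

theorem comm_conj {p q r s : ι ⊕ ι} (hpq : p ≠ q) (hrs : r ≠ s) (h1 : q ≠ r) (h2 : q ≠ bar s)
    (h3 : p ≠ bar r) (h4 : p ≠ s) (t u : K) :
    X p q t * X r s u * (X p q t)⁻¹ = X r s u := by
  rw [hX.comm p q r s hpq hrs h1 h2 h3 h4 t u]
  group

theorem mul_conj {p q s : ι ⊕ ι} (hpq : p ≠ q) (hqs : q ≠ s) (hps : p ≠ s) (hpq' : p ≠ bar q)
    (hqs' : q ≠ bar s) (hps' : p ≠ bar s) (t u : K) :
    X p q t * X q s u * (X p q t)⁻¹ = X p s (t * u) * X q s u := by
  rw [← hX.mul p q s hpq hqs hps hpq' hqs' hps' t u]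
  group

theorem mul_conj' {p q s : ι ⊕ ι} (hpq : p ≠ q) (hqs : q ≠ s) (hps : p ≠ s) (hpq' : p ≠ bar q)
    (hqs' : q ≠ bar s) (hps' : p ≠ bar s) (t u : K) :
    X q s u * X p q t * (X q s u)⁻¹ = X p s (-(t * u)) * X p q t := by
  rw [← X_neg hX hps, ← hX.mul p q s hpq hqs hps hpq' hqs' hps' t u]
  group

theorem r5_conj {p q : ι ⊕ ι} (hpq : p ≠ q) (hpq' : p ≠ bar q) (t u : K) :
    X p q t * X q (bar p) u * (X p q t)⁻¹ = X p (bar p) (2 * t * u) * X q (bar p) u := by
  rw [← hX.r5 p q hpq hpq' t u]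
  group

theorem r6_conj {p q : ι ⊕ ι} (hpq : p ≠ q) (hpq' : p ≠ bar q) (t u : K) :
    X p (bar p) t * X (bar p) q u * (X p (bar p) t)⁻¹ =
      X p q (t * u) * X (bar q) q (eps K p q * t * u ^ 2) * X (bar p) q u := by
  rw [← hX.r6 p q hpq hpq' t u]
  group

omit hX in
/-- a "section" of the index set gives a family of type `A` -/
theorem section_stRel {J : Type*} (hX : SpRel X) (f : J → ι ⊕ ι)
    (hf : ∀ i j, i ≠ j → f i ≠ f j ∧ f i ≠ bar (f j)) :
    StRel (fun i j t => X (f i) (f j) t) where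
  add i j hij t u := hX.add _ _ (hf i j hij).1 t u
  comm i j k l hij hkl hjk hil t u := by
    refine hX.comm _ _ _ _ (hf i j hij).1 (hf k l hkl).1 (hf j k hjk).1 ?_ ?_ (hf i l hil).1 t u
    · by_cases hjl : j = l
      · subst hjl; exact (bar_ne _).symm
      · exact (hf j l hjl).2
    · by_cases hik : i = k
      · subst hik; exact (bar_ne _).symm
      · exact (hf i k hik).2
  mul i j l hij hjl hil t u :=
    hX.mul _ _ _ (hf i j hij).1 (hf j l hjl).1 (hf i l hil).1 (hf i j hij).2 (hf j l hjl).2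
      (hf i l hil).2 t u

end rel

end Cfsg.Agent.Helper96.StC
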