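import Mathlib
import Cfsg.Agent.Helper96.StC.Basic

/-!
# Root vectors for the index pairs of type `C`

`rootVec p q = ε p - ε q ∈ ℤ^ι` (`ε (inl i) = e_i`, `ε (inr i) = -e_i`) is the root of the pair
`(p, q)`.  For `ι = Fin m` the linear functional `Lf` detects positivity:
`rk p < rk q ↔ Lf (rootVec p q) < 0`.
-/

set_option autoImplicit false

namespace Cfsg.Agent.Helper96.StC

variable {ι : Type*} [DecidableEq ι]

/-- `ε (inl i) = e_i`, `ε (inr i) = -e_i` -/
def epsV : ι ⊕ ι → ι → ℤ
  | Sum.inl i => Pi.single i 1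
  | Sum.inr i => -Pi.single i 1

/-- the root `ε p - ε q` of the pair `(p, q)` -/
def rootVec (p q : ι ⊕ ι) : ι → ℤ := epsV p - epsV q

theorem epsV_bar (p : ι ⊕ ι) : epsV (bar p) = -epsV p := by
  cases p <;> simp [epsV]

theorem rootVec_bar (p q : ι ⊕ ι) : rootVec (bar q) (bar p) = rootVec p q := by
  unfold rootVec
  rw [epsV_bar, epsV_bar]
  abel

theorem rootVec_swap (p q : ι ⊕ ι) : rootVec q p = -rootVec p q := by
  unfold rootVec
  abel

theorem rootVec_add (p q s : ι ⊕ ι) : rootVec p q + rootVec q s = rootVec p s := by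
  unfold rootVec
  abel

theorem rootVec_long (p : ι ⊕ ι) : rootVec p (bar p) = 2 • epsV p := by
  unfold rootVec
  rw [epsV_bar, two_smul]
  abel

section fin

variable {m : ℕ}

/-- `ν p = 2 rk p - (2m - 1)`: odd, antisymmetric under `bar` -/
def nu (p : Fin m ⊕ Fin m) : ℤ := 2 * (rk p : ℤ) - (2 * (m : ℤ) - 1)

theorem rk_lt (p : Fin m ⊕ Fin m) : rk p < 2 * m := by
  cases p with
  | inl i => simp only [rk]; omega
  | inr i => simp only [rk]; omega

theorem rk_bar (p : Fin m ⊕ Fin m) : rk (bar p) = 2 * m - 1 - rk p := by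
  cases p with
  | inl i => simp only [bar_inl, rk]
  | inr i => simp only [bar_inr, rk]; omega

theorem nu_bar (p : Fin m ⊕ Fin m) : nu (bar p) = -nu p := by
  unfold nu
  rw [rk_bar]
  have := rk_lt p
  omega

theorem rk_injective : Function.Injective (rk : Fin m ⊕ Fin m → ℕ) := by
  intro p q h
  cases p with
  | inl i =>
    cases q with
    | inl j => simp only [rk] at h; exact congrArg _ (Fin.ext h)
    | inr j => simp only [rk] at h; omega
  | inr i =>
    cases q with
    | inl j => simp only [rk] at h; omega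
    | inr j => simp only [rk] at h; exact congrArg _ (Fin.ext (by omega))

/-- the linear functional detecting positivity -/
def Lf (v : Fin m → ℤ) : ℤ := ∑ k, v k * nu (Sum.inl k : Fin m ⊕ Fin m)

theorem Lf_add (v w : Fin m → ℤ) : Lf (v + w) = Lf v + Lf w := by
  unfold Lf
  rw [← Finset.sum_add_distrib]
  exact Finset.sum_congr rfl fun k _ => by rw [Pi.add_apply]; ring

theorem Lf_neg (v : Fin m → ℤ) : Lf (-v) = -Lf v := by
  unfold Lf
  rw [← Finset.sum_neg_distrib]
  exact Finset.sum_congr rfl fun k _ => by rw [Pi.neg_apply]; ring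

theorem Lf_sub (v w : Fin m → ℤ) : Lf (v - w) = Lf v - Lf w := by
  rw [sub_eq_add_neg, Lf_add, Lf_neg, sub_eq_add_neg]

theorem Lf_nsmul (c : ℕ) (v : Fin m → ℤ) : Lf (c • v) = c * Lf v := by
  unfold Lf
  rw [Finset.mul_sum]
  exact Finset.sum_congr rfl fun k _ => by rw [Pi.smul_apply, nsmul_eq_mul]; ring

theorem Lf_epsV (p : Fin m ⊕ Fin m) : Lf (epsV p) = nu p := by
  cases p with
  | inl i =>
    unfold Lf epsV
    rw [Finset.sum_eq_single i]
    · simp
    · intro k _ hk; simp [Pi.single_apply, hk]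
    · intro h; exact absurd (Finset.mem_univ i) h
  | inr i =>
    have h1 : epsV (Sum.inr i : Fin m ⊕ Fin m) = -epsV (Sum.inl i) := by simp [epsV]
    rw [h1, Lf_neg]
    have h2 : Lf (epsV (Sum.inl i : Fin m ⊕ Fin m)) = nu (Sum.inl i) := by
      unfold Lf epsV
      rw [Finset.sum_eq_single i]
      · simp
      · intro k _ hk; simp [Pi.single_apply, hk]
      · intro h; exact absurd (Finset.mem_univ i) h
    rw [h2, ← nu_bar, bar_inl]

theorem Lf_rootVec (p q : Fin m ⊕ Fin m) : Lf (rootVec p q) = nu p - nu q := by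
  unfold rootVec
  rw [Lf_sub, Lf_epsV, Lf_epsV]

/-- positivity of a pair is detected by `Lf`: `Lf (rootVec p q) = 2 (rk p - rk q)` -/
theorem Lf_rootVec_eq (p q : Fin m ⊕ Fin m) :
    Lf (rootVec p q) = 2 * ((rk p : ℤ) - (rk q : ℤ)) := by
  rw [Lf_rootVec]
  unfold nu
  ring

theorem rk_lt_iff (p q : Fin m ⊕ Fin m) : rk p < rk q ↔ Lf (rootVec p q) < 0 := by
  rw [Lf_rootVec_eq]
  omega

end fin

end Cfsg.Agent.Helper96.StC
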