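import Mathlib
import Cfsg.Agent.Helper96.StC.Generic
import Cfsg.Agent.Helper14.StCA4
import Cfsg.Agent.Helper11.StCA5L
import Cfsg.Agent.Helper55.StCA5S

/-!
# A family of type `C` satisfies `MonoData`

Assembly of the pieces (A1)-(A5) (helper29, helper86, helper14, helper11, helper55).
-/

set_option autoImplicit false

namespace Cfsg.Agent.Helper96.StC

open Cfsg.Agent.Helper96.StN

universe u v w

variable {K : Type u} [Field K] {D : Type v} [Group D] {ι : Type w} [DecidableEq ι]
  {X : ι ⊕ ι → ι ⊕ ι → K → D}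

/-- a family of type `C` satisfies the rank one relations and all `w_pq(t)` are monomial -/
theorem monoData (hX : SpRel X) (h2 : ∀ p : ι ⊕ ι, ∃ r, r ≠ p ∧ r ≠ bar p) :
    MonoData X reflPerm cw where
  rel p q hpq := by
    by_cases hq : q = bar p
    · subst hq
      exact Cfsg.Agent.Helper14.StCA4.long_pair_rel hX h2 p
    · exact Cfsg.Agent.Helper14.StCA4.short_pair_rel hX hpq hq
  mono p q hpq t ht := by
    by_cases hq : q = bar p
    · subst hq
      exact Cfsg.Agent.Helper11.StCA5L.W_long_isMono hX h2 p ht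
    · exact Cfsg.Agent.Helper55.StCA5S.W_short_isMono hX hpq hq ht

theorem exists_other {m : ℕ} (hm : 2 ≤ m) (p : Fin m ⊕ Fin m) : ∃ r, r ≠ p ∧ r ≠ bar p := by
  obtain ⟨i, rfl⟩ | ⟨i, rfl⟩ : (∃ i, p = Sum.inl i) ∨ ∃ i, p = Sum.inr i := by
    cases p with
    | inl i => exact Or.inl ⟨i, rfl⟩
    | inr i => exact Or.inr ⟨i, rfl⟩
  all_goals
    have : ∃ j : Fin m, j ≠ i := by
      by_cases h0 : i.val = 0
      · exact ⟨⟨1, by omega⟩, fun e => by have := congrArg Fin.val e; simp at this; omega⟩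
      · exact ⟨⟨0, by omega⟩, fun e => by have := congrArg Fin.val e; simp at this; omega⟩
    obtain ⟨j, hj⟩ := this
    refine ⟨Sum.inl j, ?_, ?_⟩ <;> simp [hj]

end Cfsg.Agent.Helper96.StC
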