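import Mathlib
import Cfsg.Agent.Helper96.StC.Mono
import Cfsg.Agent.Helper38.StCU
import Cfsg.Agent.Helper64.StCBruhat
import Cfsg.Agent.Helper68.StCN2
import Cfsg.Agent.Helper81.StCT

/-!
# The Steinberg presentation of `Sp_{2m}(K)` (`K` a finite field, `m ≥ 2`), injectivity form

A group generated by a family `X p q t` (`p ≠ q` in `Fin m ⊕ Fin m`) satisfying the Steinberg
relations `SpRel` of type `C_m` maps injectively to `Sp_{2m}(K)` under any homomorphism sending
`X p q t` to the root element `spM p q t`.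

Assembly of: (A1)-(A5) `monoData` (helper29/86/14/11/55), (U) unitriangular part (helper38),
(B) Bruhat decomposition (helper64), (N1)/(N2) Weyl group part (helper67/68), (T) torus part
(helper81).
-/

set_option autoImplicit false

namespace Cfsg.Agent.Helper96.StC

open Matrix Cfsg.Agent.Helper96.StN

universe u v

variable {K : Type u} [Field K] {D : Type v} [Group D]

/-- **Steinberg presentation of `Sp_{2m}(K)`** (`K` finite, `m ≥ 2`), injectivity form: a group
generated by a family satisfying the relations of type `C_m` maps injectively to `Sp_{2m}(K)`. -/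
theorem phi_injective [Fintype K] {m : ℕ} (hm : 2 ≤ m)
    {X : Fin m ⊕ Fin m → Fin m ⊕ Fin m → K → D} (hX : SpRel X)
    (hgen : Subgroup.closure {g | ∃ p q, p ≠ q ∧ ∃ t, g = X p q t} = ⊤)
    (φ : D →* symplecticGroup (Fin m) K)
    (hφ : ∀ p q, p ≠ q → ∀ t, (φ (X p q t)).1 = spM p q t) :
    Function.Injective φ := by
  have hM : MonoData X reflPerm cw := monoData hX (exists_other hm)
  rw [injective_iff_map_eq_one]
  intro x hx
  obtain ⟨u, hu, n, hn, u', hu', rfl⟩ := Cfsg.Agent.Helper64.StCB.bruhat hX hM hgen x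
  have hn1 : φ n = φ (u⁻¹ * u'⁻¹) := by
    rw [map_mul, map_mul] at hx
    rw [map_mul, map_inv, map_inv]
    have e : φ n = (φ u)⁻¹ * (φ u * φ n * φ u') * (φ u')⁻¹ := by group
    rw [e, hx, mul_one]
  have huu : u⁻¹ * u'⁻¹ ∈ UposC X := mul_mem (inv_mem hu) (inv_mem hu')
  obtain ⟨hup, hdiag⟩ := Cfsg.Agent.Helper38.StCU.phi_UC_unitri φ hφ _ huu
  rw [← hn1] at hup hdiag
  have hnH : n ∈ Hsub X := Cfsg.Agent.Helper68.StCN2.mem_Hsub_of_upper hX hM φ hφ n hn hup
  have hoff := Cfsg.Agent.Helper81.StCT.phi_H_diag hM φ hφ n hnH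
  have hn2 : φ n = 1 := by
    apply Subtype.ext
    ext r k
    change (φ n).1 r k = (1 : Matrix (Fin m ⊕ Fin m) (Fin m ⊕ Fin m) K) r k
    by_cases hrk : r = k
    · subst hrk
      rw [hdiag, Matrix.one_apply_eq]
    · rw [hoff r k hrk, Matrix.one_apply_ne hrk]
  have hn3 : n = 1 := Cfsg.Agent.Helper81.StCT.phi_injOn_H hX hM φ hφ n hnH hn2
  subst hn3
  rw [mul_one] at hx ⊢
  exact Cfsg.Agent.Helper38.StCU.phi_injOn_UC hX φ hφ _ (mul_mem hu hu') hx

end Cfsg.Agent.Helper96.StC
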