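import Mathlib
import Cfsg.Agent.Helper96.StC.Main
import Cfsg.Agent.Helper62.StCG2

/-!
# Lifted Steinberg families give sections (type `C_m`)

If `p : E →* Sp_{2m}(K)` is a homomorphism and `Z` is a family in `E` satisfying the Steinberg
relations `SpRel` of type `C_m` and lifting the root elements `spT a b t`, then `p` has a section.
-/

set_option autoImplicit false

namespace Cfsg.Agent.Helper96.StC

open Matrix Cfsg.Agent.Helper96.StN Cfsg.Agent.Helper29.StCM

universe u v

variable {K : Type u} [Field K]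

/-- a lifted Steinberg family in an extension of `Sp_{2m}(K)` gives a section -/
theorem exists_section [Fintype K] {m : ℕ} (hm : 2 ≤ m) {E : Type v} [Group E]
    (p : E →* symplecticGroup (Fin m) K)
    (Z : Fin m ⊕ Fin m → Fin m ⊕ Fin m → K → E) (hZ : SpRel Z)
    (hpZ : ∀ a b, a ≠ b → ∀ t, p (Z a b t) = spT a b t) :
    ∃ s : symplecticGroup (Fin m) K →* E, p.comp s = MonoidHom.id _ := by
  classical
  let S : Set E := {g | ∃ a b, a ≠ b ∧ ∃ t, g = Z a b t}
  let D' : Subgroup E := Subgroup.closure S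
  have hmem : ∀ a b, a ≠ b → ∀ t, Z a b t ∈ D' := fun a b hab t =>
    Subgroup.subset_closure ⟨a, b, hab, t, rfl⟩
  let Z' : Fin m ⊕ Fin m → Fin m ⊕ Fin m → K → D' := fun a b t =>
    if h : a ≠ b then ⟨Z a b t, hmem a b h t⟩ else 1
  have hZ'coe : ∀ a b, a ≠ b → ∀ t, ((Z' a b t : D') : E) = Z a b t := by
    intro a b hab t
    simp only [Z', dif_pos hab]
  have hne : ∀ {a b : Fin m ⊕ Fin m}, a ≠ b → bar b ≠ bar a := fun hab e =>
    hab (bar_injective e).symm
  have hZ' : SpRel Z' := by
    refine ⟨?_, ?_, ?_, ?_, ?_, ?_⟩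
    · intro a b hab hab' t
      apply Subtype.ext
      rw [hZ'coe a b hab, hZ'coe _ _ (hne hab)]
      exact hZ.sym a b hab hab' t
    · intro a b hab t u
      apply Subtype.ext
      rw [Subgroup.coe_mul, hZ'coe a b hab, hZ'coe a b hab, hZ'coe a b hab]
      exact hZ.add a b hab t u
    · intro a b r s hab hrs h1 h2 h3 h4 t u
      apply Subtype.ext
      rw [Subgroup.coe_mul, Subgroup.coe_mul, hZ'coe a b hab, hZ'coe r s hrs]
      exact hZ.comm a b r s hab hrs h1 h2 h3 h4 t u
    · intro a b s hab hbs has hab' hbs' has' t u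
      apply Subtype.ext
      rw [Subgroup.coe_mul, Subgroup.coe_mul, Subgroup.coe_mul, Subgroup.coe_inv, Subgroup.coe_inv,
        hZ'coe a b hab, hZ'coe b s hbs, hZ'coe a s has]
      exact hZ.mul a b s hab hbs has hab' hbs' has' t u
    · intro a b hab hab' t u
      have hb : b ≠ bar a := fun e => hab' (by rw [e, bar_bar])
      apply Subtype.ext
      rw [Subgroup.coe_mul, Subgroup.coe_mul, Subgroup.coe_mul, Subgroup.coe_inv, Subgroup.coe_inv,
        hZ'coe a b hab, hZ'coe b (bar a) hb, hZ'coe a (bar a) (bar_ne a).symm]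
      exact hZ.r5 a b hab hab' t u
    · intro a b hab hab' t u
      have hb : bar a ≠ b := fun e => hab' (by rw [← e, bar_bar])
      apply Subtype.ext
      rw [Subgroup.coe_mul, Subgroup.coe_mul, Subgroup.coe_mul, Subgroup.coe_mul,
        Subgroup.coe_inv, Subgroup.coe_inv,
        hZ'coe a (bar a) (bar_ne a).symm, hZ'coe (bar a) b hb, hZ'coe a b hab,
        hZ'coe (bar b) b (bar_ne b)]
      exact hZ.r6 a b hab hab' t u
  let φ : D' →* symplecticGroup (Fin m) K := p.comp D'.subtype
  have hφ : ∀ a b, a ≠ b → ∀ t, (φ (Z' a b t)).1 = spM a b t := by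
    intro a b hab t
    change (p ((Z' a b t : D') : E)).1 = _
    rw [hZ'coe a b hab, hpZ a b hab, spT_coe hab]
  have hgen : Subgroup.closure {g : D' | ∃ a b, a ≠ b ∧ ∃ t, g = Z' a b t} = ⊤ := by
    rw [eq_top_iff]
    rintro ⟨x, hx⟩ -
    induction hx using Subgroup.closure_induction with
    | mem g hg =>
      obtain ⟨a, b, hab, t, rfl⟩ := hg
      exact Subgroup.subset_closure ⟨a, b, hab, t, Subtype.ext (hZ'coe a b hab t).symm⟩
    | one => exact one_mem _
    | mul x y hx hy ihx ihy =>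
      have : (⟨x * y, mul_mem hx hy⟩ : D') = ⟨x, hx⟩ * ⟨y, hy⟩ := rfl
      rw [this]
      exact mul_mem ihx ihy
    | inv x hx ihx =>
      have : (⟨x⁻¹, inv_mem hx⟩ : D') = (⟨x, hx⟩ : D')⁻¹ := rfl
      rw [this]
      exact inv_mem ihx
  have hinj : Function.Injective φ := phi_injective hm hZ' hgen φ hφ
  have hsurj : Function.Surjective φ := by
    rw [← MonoidHom.range_eq_top, eq_top_iff,
      ← Cfsg.Agent.Helper62.StCG.spT_closure (K := K) (m := m), Subgroup.closure_le]
    rintro g ⟨a, b, hab, t, rfl⟩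
    refine ⟨Z' a b t, ?_⟩
    apply Subtype.ext
    rw [hφ a b hab, spT_coe hab]
  let e : D' ≃* symplecticGroup (Fin m) K := MulEquiv.ofBijective φ ⟨hinj, hsurj⟩
  refine ⟨D'.subtype.comp e.symm.toMonoidHom, ?_⟩
  ext1 g
  change p ((e.symm g : D') : E) = g
  have : φ (e.symm g) = g := e.apply_symm_apply g
  exact this

end Cfsg.Agent.Helper96.StC
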