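import Mathlib
import Cfsg.Agent.Helper96.StC.Roots
import Cfsg.Agent.Helper97.StCGenComm

/-!
# Equality of root vectors, and the general commutator lemma with hypotheses on the index pairs
-/

set_option autoImplicit false

namespace Cfsg.Agent.Helper96.StC

universe u v w

variable {ι : Type w} [DecidableEq ι]

theorem epsV_apply_inl (i x : ι) : epsV (Sum.inl i : ι ⊕ ι) x = if x = i then 1 else 0 := by
  simp [epsV, Pi.single_apply]

theorem epsV_apply_inr (i x : ι) : epsV (Sum.inr i : ι ⊕ ι) x = if x = i then -1 else 0 := by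
  simp only [epsV, Pi.neg_apply, Pi.single_apply]
  split_ifs <;> simp

set_option maxHeartbeats 1600000 in
/-- two index pairs have the same root only if they are equal or "opposite barred" -/
theorem rootVec_eq_iff {p q r s : ι ⊕ ι} (hpq : p ≠ q) (hrs : r ≠ s)
    (h : rootVec r s = rootVec p q) : (r = p ∧ s = q) ∨ (r = bar q ∧ s = bar p) := by
  have hfun : ∀ x, epsV r x - epsV s x = epsV p x - epsV q x := fun x => by
    have := congrFun h x
    simpa [rootVec] using this
  rcases p with i | i <;> rcases q with j | j <;> rcases r with k | k <;> rcases s with l | l <;>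
  · have h1 := hfun i
    have h2 := hfun j
    have h3 := hfun k
    have h4 := hfun l
    simp only [epsV_apply_inl, epsV_apply_inr] at h1 h2 h3 h4
    simp only [bar_inl, bar_inr, Sum.inl.injEq, Sum.inr.injEq, reduceCtorEq, false_and, or_false,
      false_or, and_false, ne_eq] at hpq hrs ⊢
    by_cases hik : i = k <;> by_cases hil : i = l <;> by_cases hjk : j = k <;>
      by_cases hjl : j = l <;> by_cases hij : i = j <;> by_cases hkl : k = l <;>
      subst_vars <;> simp_all

variable {K : Type u} [Field K] {D : Type v} [Group D] {X : ι ⊕ ι → ι ⊕ ι → K → D}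

/-- the general commutator lemma, with the non-proportionality of the roots expressed on the
index pairs -/
theorem gen_comm_pairs (hX : SpRel X) {p q r s : ι ⊕ ι} (hpq : p ≠ q) (hrs : r ≠ s)
    (h1 : ¬ (r = p ∧ s = q)) (h1b : ¬ (r = bar q ∧ s = bar p)) (h2 : ¬ (r = q ∧ s = p))
    (h2b : ¬ (r = bar p ∧ s = bar q)) (a b : K) :
    X p q a * X r s b * (X p q a)⁻¹ * (X r s b)⁻¹ ∈
      Subgroup.closure {g | ∃ i j, i ≠ j ∧
        (∃ c d : ℕ, 1 ≤ c ∧ 1 ≤ d ∧ rootVec i j = c • rootVec p q + d • rootVec r s) ∧
        ∃ t, g = X i j t} := by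
  apply Cfsg.Agent.Helper97.StC.gen_comm hX hpq hrs
  · intro h
    rcases rootVec_eq_iff hpq hrs h with h' | h'
    · exact h1 h'
    · exact h1b h'
  · intro h
    rw [← rootVec_swap] at h
    rcases rootVec_eq_iff hpq.symm hrs h with h' | h'
    · exact h2 h'
    · exact h2b h'

end Cfsg.Agent.Helper96.StC
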